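import Groth.Agent.H10Coh.FlatBC.FlatSheaf
import Groth.Agent.H16Derived.TorTest.DescPC
import Groth.Agent.H22Alg.ESZPush
import Groth.Agent.S11133
import Groth.Prelude.Def_CohBC2

/-!
# Epimorphisms of direct images under base change
-/

set_option autoImplicit false
set_option linter.style.haveILetI false
set_option backward.isDefEq.respectTransparency.types false

noncomputable section

universe u

open CategoryTheory CategoryTheory.Limits AlgebraicGeometry Opposite TopologicalSpace

local notation "pullback" => Scheme.Modules.pullback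
local notation "pushforward" => Scheme.Modules.pushforward

namespace Groth.Agent.H10Coh.FreeSec.BC

open AlgebraicGeometry.Scheme.Modules (pullbackPushforwardAdjunction pushforwardComp pushforwardCongr)

variable {X S X' S' : Scheme.{u}} {f : X ⟶ S} {g : S' ⟶ S} {g' : X' ⟶ X} {f' : X' ⟶ S'}

section
variable (h : IsPullback g' f' f g)

abbrev bc (M : X.Modules) : (pullback g).obj ((pushforward f).obj M) ⟶ (pushforward f').obj ((pullback g').obj M) :=
  CohBC.bc0 f g f' g' h.w M

theorem bc0Adj_eq (M : X.Modules) :
    CohBC.bc0Adj f g f' g' h.w M = FBC.τPush h ((pullbackPushforwardAdjunction g').unit.app M) := by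
  rw [FBC.τPush]
  rfl

theorem bc0Adj_naturality {M N : X.Modules} (φ : M ⟶ N) :
    (pushforward f).map φ ≫ CohBC.bc0Adj f g f' g' h.w N =
      CohBC.bc0Adj f g f' g' h.w M ≫ (pushforward g).map ((pushforward f').map ((pullback g').map φ)) := by
  rw [bc0Adj_eq h, bc0Adj_eq h, FBC.τPush, FBC.τPush, ← Category.assoc, ← Functor.map_comp]
  rw [show φ ≫ (pullbackPushforwardAdjunction g').unit.app N =
    (pullbackPushforwardAdjunction g').unit.app M ≫ (pushforward g').map ((pullback g').map φ) from
      (pullbackPushforwardAdjunction g').unit.naturality φ]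
  rw [Functor.map_comp, Category.assoc, Category.assoc]
  exact congrArg ((pushforward f).map ((pullbackPushforwardAdjunction g').unit.app M) ≫ ·)
    ((pushforwardComp g' f ≪≫ pushforwardCongr h.w ≪≫ (pushforwardComp f' g).symm).hom.naturality
      ((pullback g').map φ))

theorem bc_naturality {M N : X.Modules} (φ : M ⟶ N) :
    (pullback g).map ((pushforward f).map φ) ≫ bc h N = bc h M ≫ (pushforward f').map ((pullback g').map φ) :=
  (((pullbackPushforwardAdjunction g).homEquiv_naturality_left_symm _ _).symm.trans
    (congrArg ((pullbackPushforwardAdjunction g).homEquiv _ _).symm (bc0Adj_naturality h φ))).trans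
      ((pullbackPushforwardAdjunction g).homEquiv_naturality_right_symm _ _)

theorem isIso_bc_of_isAffineHom [IsAffineHom f] (M : X.Modules) [M.IsQuasicoherent] : IsIso (bc h M) := by
  haveI : IsAffineHom f' := MorphismProperty.of_isPullback (P := @IsAffineHom) h inferInstance
  have hN : ((pushforward f).obj M).IsQuasicoherent := H10Coh.isQuasicoherent_pushforward_of_isAffineHom f M
  haveI hq : ((pullback g').obj M).IsQuasicoherent := H29Fitt.isQCoh_pullback g' M inferInstance
  have := FBC.isIso_transpose g hN (FBC.τPush h ((pullbackPushforwardAdjunction g').unit.app M))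
    (fun V V' hV hV' hle => FBC.bijective_locLin_of_isAffineHom h inferInstance hV hV' hle)
  rw [← bc0Adj_eq] at this
  exact this

theorem isIso_bc_of_flat [QuasiCompact f] [QuasiSeparated f] [Flat g] (M : X.Modules) [M.IsQuasicoherent] :
    IsIso (bc h M) := by
  haveI : Coh.IsQCoh M := ‹M.IsQuasicoherent›
  have h0 := Groth.Agent.S11133.result f g g' f' h M
  rw [bc, CohBC.bc0, CohBC.bc0Adj, Adjunction.homEquiv_counit]
  simp only [Functor.map_comp, Category.assoc] at h0 ⊢
  simpa only [Iso.trans_hom, NatTrans.comp_app, Iso.symm_hom, Functor.map_comp, Category.assoc] using h0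

theorem isIso_bc_of_iso {M N : X.Modules} (e : M ≅ N) (hM : IsIso (bc h M)) : IsIso (bc h N) :=
  IsIso.of_isIso_fac_left (bc_naturality h e.hom)

section push
variable {Z Z' : Scheme.{u}} {i : Z ⟶ X} {i' : Z' ⟶ X'} {g'' : Z' ⟶ Z} (hz : IsPullback g'' i' i g')

theorem bc0Adj_comp (G : Z.Modules) :
    (pushforwardComp i f).hom.app G ≫ CohBC.bc0Adj (i ≫ f) g (i' ≫ f') g'' (hz.paste_vert h).w G ≫
        (pushforward g).map ((pushforwardComp i' f').inv.app ((pullback g'').obj G)) =
      CohBC.bc0Adj f g f' g' h.w ((pushforward i).obj G) ≫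
        (pushforward g).map ((pushforward f').map (bc hz G)) := by
  have key : (pullbackPushforwardAdjunction g').unit.app ((pushforward i).obj G) ≫ (pushforward g').map (bc hz G) =
      CohBC.bc0Adj i g' i' g'' hz.w G := by
    exact ((pullbackPushforwardAdjunction g').homEquiv_unit _ _ _).symm.trans (Equiv.apply_symm_apply _ _)
  apply Scheme.Modules.hom_ext
  intro U
  ext x
  have k := congr($(congrArg (fun k => Scheme.Modules.Hom.app k (f ⁻¹ᵁ U)) key) x)
  have h₁ := FBC.τPush_app h ((pullbackPushforwardAdjunction g').unit.app ((pushforward i).obj G)) U x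
  have h₂ := FBC.τPush_app hz ((pullbackPushforwardAdjunction g'').unit.app G) (f ⁻¹ᵁ U) x
  have h₃ := FBC.τPush_app (hz.paste_vert h) ((pullbackPushforwardAdjunction g'').unit.app G) U x
  rw [← bc0Adj_eq] at h₁ h₂ h₃
  simp only [Scheme.Modules.Hom.comp_app] at k ⊢
  show (CohBC.bc0Adj (i ≫ f) g (i' ≫ f') g'' (hz.paste_vert h).w G).app U x =
    (bc hz G).app (f' ⁻¹ᵁ (g ⁻¹ᵁ U)) ((CohBC.bc0Adj f g f' g' h.w ((pushforward i).obj G)).app U x)
  refine h₃.trans (Eq.symm ((congrArg ((bc hz G).app _) h₁).trans ((app_rs (bc hz G) _ _).trans ?_)))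
  generalize hy : (bc hz G).app (g' ⁻¹ᵁ f ⁻¹ᵁ U)
    (((pullbackPushforwardAdjunction g').unit.app ((pushforward i).obj G)).app (f ⁻¹ᵁ U) x) = y
  have k' : y = (CohBC.bc0Adj i g' i' g'' hz.w G).app (f ⁻¹ᵁ U) x := hy.symm.trans k
  rw [k', h₂]
  exact rs_rs ((pullback g'').obj G) _ (i'.preimage_mono (FBC.preimage_swap h U).le) _

include hz in
theorem isIso_bc_push [IsAffineHom i] [IsAffineHom (i ≫ f)] (G : Z.Modules) [G.IsQuasicoherent] :
    IsIso (bc h ((pushforward i).obj G)) := by
  haveI := isIso_bc_of_isAffineHom hz G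
  haveI := isIso_bc_of_isAffineHom (hz.paste_vert h) G
  have e := congrArg ((pullbackPushforwardAdjunction g).homEquiv _ _).symm (bc0Adj_comp h hz G)
  rw [Adjunction.homEquiv_naturality_left_symm, Adjunction.homEquiv_naturality_right_symm,
    Adjunction.homEquiv_naturality_right_symm] at e
  haveI : IsIso ((pushforward f').map (bc hz G)) := inferInstance
  have : IsIso (bc h ((pushforward i).obj G) ≫ (pushforward f').map (bc hz G)) := by
    rw [show bc h ((pushforward i).obj G) ≫ (pushforward f').map (bc hz G) = _ from e.symm]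
    exact inferInstanceAs (IsIso (_ ≫ bc (hz.paste_vert h) G ≫ _))
  exact IsIso.of_isIso_comp_right (bc h ((pushforward i).obj G)) ((pushforward f').map (bc hz G))

end push

theorem epi_of_epi {M N : X.Modules} (φ : M ⟶ N) (hN : IsIso (bc h N)) (he : Epi ((pushforward f).map φ)) :
    Epi ((pushforward f').map ((pullback g').map φ)) := by
  haveI := hN
  haveI := he
  haveI := (pullbackPushforwardAdjunction g).isLeftAdjoint
  haveI : Epi ((pullback g).map ((pushforward f).map φ)) := inferInstance
  exact epi_of_epi_fac (bc_naturality h φ).symm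

theorem epi_of_epi_descend [Flat g] [Surjective g] {M N : X.Modules} (φ : M ⟶ N) (hM : IsIso (bc h M))
    (hN : IsIso (bc h N)) (he : Epi ((pushforward f').map ((pullback g').map φ))) :
    Epi ((pushforward f).map φ) := by
  haveI := hM
  haveI := hN
  haveI := he
  haveI := (pullbackPushforwardAdjunction g).isLeftAdjoint
  haveI : Epi ((pullback g).map ((pushforward f).map φ)) := by
    haveI : Epi ((pullback g).map ((pushforward f).map φ) ≫ bc h N) := by
      rw [bc_naturality]
      infer_instance
    rw [show (pullback g).map ((pushforward f).map φ) =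
      ((pullback g).map ((pushforward f).map φ) ≫ bc h N) ≫ inv (bc h N) by simp]
    infer_instance
  refine Preadditive.epi_of_isZero_cokernel _ (H22Alg.ESZ.isZero_of_stalks _ fun y => ?_)
  obtain ⟨x, rfl⟩ := g.surjective y
  refine H16Derived.TorTest.subsingleton_stalk_of_pullback g _ x ?_
  have hz : IsZero ((pullback g).obj (cokernel ((pushforward f).map φ))) :=
    (isZero_cokernel_of_epi ((pullback g).map ((pushforward f).map φ))).of_iso
      (PreservesCokernel.iso (pullback g) _)
  exact AddCommGrpCat.subsingleton_of_isZero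
    ((TopCat.Presheaf.stalkFunctor AddCommGrpCat.{u} x).map_isZero ((Scheme.Modules.toPresheaf S').map_isZero hz))

end

end Groth.Agent.H10Coh.FreeSec.BC
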