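import Groth.Agent.H10Coh.FreeSec.Le
import Groth.Agent.H10Coh.FreeSec.BaseChange

/-!
# The restriction map under base change
-/

set_option autoImplicit false
set_option linter.style.haveILetI false
set_option linter.unusedSectionVars false
set_option backward.isDefEq.respectTransparency.types false

noncomputable section

universe u

open CategoryTheory CategoryTheory.Limits AlgebraicGeometry TopologicalSpace Opposite

namespace Groth.Agent.H10Coh.FreeSec

attribute [local instance 10000] hasSheafifyAb hasWeakSheafifyAb hasExtAb enoughInjAb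
attribute [local instance] enoughInjMod

variable {k : Type u} [Field k] {C : Scheme.{u}} [C.Over (Spec (CommRingCat.of k))]
variable {T : Scheme.{u}} (t : T ⟶ Spec (CommRingCat.of k))

local notation "P" => pullback t (C ↘ Spec (CommRingCat.of k))
local notation "pT" => pullback.fst t (C ↘ Spec (CommRingCat.of k))
local notation "pC" => pullback.snd t (C ↘ Spec (CommRingCat.of k))

theorem nonempty_arrow_comp {A B B' E : Type*} [Category A] [Category B] [Category B'] [Category E]
    {F : A ⥤ B} {G : B ⥤ E} {H : B ⥤ B'} {K : A ⥤ B'} {L : B' ⥤ E} {M : B ⥤ B}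
    (R : M ⋙ G ⟶ H ⋙ L) (hR : ∀ N, IsIso (R.app N)) (η : F ⋙ H ≅ K) {a b : A} (f : a ⟶ b) :
    Nonempty (Arrow.mk (G.map (M.map (F.map f))) ≅ Arrow.mk (L.map (K.map f))) := by
  refine ⟨Arrow.isoMk (@asIso _ _ _ _ (R.app (F.obj a)) (hR _) ≪≫ L.mapIso (η.app a))
    (@asIso _ _ _ _ (R.app (F.obj b)) (hR _) ≪≫ L.mapIso (η.app b)) ?_⟩
  show (R.app _ ≫ L.map (η.hom.app a)) ≫ L.map (K.map f) =
    G.map (M.map (F.map f)) ≫ R.app _ ≫ L.map (η.hom.app b)
  rw [Category.assoc, ← L.map_comp, ← η.hom.naturality f, L.map_comp]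
  exact (((congrArg (· ≫ L.map (η.hom.app b)) (R.naturality (F.map f))).symm.trans (Category.assoc _ _ _)).symm.trans
    (Category.assoc _ _ _)).symm

/-- Pullback of the restriction map. -/
theorem nonempty_arrow_res {T' : Scheme.{u}} {t' : T' ⟶ Spec (CommRingCat.of k)}
    (v : pullback t' (C ↘ Spec (CommRingCat.of k)) ⟶ P)
    (hv : v ≫ pC = pullback.snd t' (C ↘ Spec (CommRingCat.of k))) (F : (P).Modules) (D : C.IdealSheafData) :
    Nonempty (Arrow.mk ((Scheme.Modules.pullback v).map (res t F D)) ≅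
      Arrow.mk (res t' ((Scheme.Modules.pullback v).obj F) D)) := by
  exact nonempty_arrow_comp (H16Derived.KFlat.Stalk.pullTensorR v F)
    (fun N => by
      rw [← H16Derived.KFlat.Stalk.pullTensorLIso_hom_app]
      infer_instance)
    (Scheme.Modules.pullbackComp v pC ≪≫ Scheme.Modules.pullbackCongr hv) (ClSub.toSubscheme D)

variable (hC : Curve.IsSmoothProperCurve k C (C ↘ Spec (CommRingCat.of k)))
  {D : C.IdealSheafData} (hD : BlowUp.IsEffCartierIdeal D)

theorem isQCoh_res_src {F : (P).Modules} (hF : FlatMod.IsFinLocFree F) :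
    (CohB1.tensorMod F ((Scheme.Modules.pullback pC).obj (Coh.structureModule C))).IsQuasicoherent := by
  haveI : F.IsQuasicoherent := H8Props.FinLocFree.isQCoh_of_isFinLocFree _ hF
  haveI : (Coh.structureModule C).IsQuasicoherent := H10Coh.isQuasicoherent_unit
  haveI : ((Scheme.Modules.pullback pC).obj (Coh.structureModule C)).IsQuasicoherent :=
    H29Fitt.isQCoh_pullback pC _ inferInstance
  exact H10Coh.TT.isQCoh_tensorMod _ _

include hC hD in
theorem isIso_bc_quo {F : (P).Modules} (hF : FlatMod.IsFinLocFree F) {T' P' : Scheme.{u}} {u : T' ⟶ T}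
    {v : P' ⟶ P} {q : P' ⟶ T'} (h : IsPullback v q pT u) : IsIso (BC.bc h (quo t F D)) := by
  let g := pullback.fst D.subschemeι pC
  let i' := pullback.snd D.subschemeι pC
  have H : IsPullback g i' D.subschemeι pC := IsPullback.of_hasPullback _ _
  haveI : (Coh.structureModule D.subscheme).IsQuasicoherent := H10Coh.isQuasicoherent_unit
  let K := Coh.structureModule D.subscheme
  let O := (Scheme.Modules.pullback g).obj K
  haveI := PF.isIso_ψ_of_isFinLocFree i' hF O
  let G := ((DCoh.tensorBi).obj O).obj ((Scheme.Modules.pullback i').obj F)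
  have e : quo t F D ≅ (Coh.push i').obj G :=
    PicGrp.tensorModIso (Iso.refl F) ((H8Props.ClosedBC.baseChangeIso H).app K) ≪≫ H10Coh.Tw.commIso _ _ ≪≫
      eqToIso (H25Euler.tensorBi_obj_obj _ _).symm ≪≫ asIso (H16Derived.ProjFormula.ψ i' O F)
  have hsq : IsPullback (i' ≫ pT) g t (D.subschemeι ≫ (C ↘ Spec (CommRingCat.of k))) :=
    H.flip.paste_horiz (IsPullback.of_hasPullback t (C ↘ Spec (CommRingCat.of k)))
  haveI := isFinite_subscheme hC hD
  haveI : IsAffineHom (i' ≫ pT) := MorphismProperty.of_isPullback hsq.flip inferInstance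
  haveI : G.IsQuasicoherent := by
    have hFi := H16Derived.KFlat.Stalk.isFinLocFree_pullback i' hF
    haveI : ((Scheme.Modules.pullback i').obj F).IsQuasicoherent :=
      H8Props.FinLocFree.isQCoh_of_isFinLocFree _ hFi
    haveI : O.IsQuasicoherent := H29Fitt.isQCoh_pullback g K inferInstance
    exact H10Coh.TT.isQCoh_tensorMod _ _
  exact BC.isIso_bc_of_iso h e.symm (BC.isIso_bc_push h (IsPullback.of_hasPullback i' v) G)

include hC hD in
theorem epi_res_iff {F : (P).Modules} (hF : FlatMod.IsFinLocFree F) {T' : Scheme.{u}} (u : T' ⟶ T) :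
    let v := pullback.map (u ≫ t) (C ↘ Spec (CommRingCat.of k)) t (C ↘ Spec (CommRingCat.of k)) u (𝟙 C)
      (𝟙 (Spec (CommRingCat.of k))) (Category.comp_id _) ((Category.comp_id _).trans (Category.id_comp _).symm)
    (Epi ((Coh.push pT).map (res t F D)) →
        Epi ((Coh.push (pullback.fst (u ≫ t) (C ↘ Spec (CommRingCat.of k)))).map
          (res (u ≫ t) ((Scheme.Modules.pullback v).obj F) D))) ∧
      (Flat u → Surjective u →
        Epi ((Coh.push (pullback.fst (u ≫ t) (C ↘ Spec (CommRingCat.of k)))).map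
          (res (u ≫ t) ((Scheme.Modules.pullback v).obj F) D)) →
        Epi ((Coh.push pT).map (res t F D))) := by
  intro v
  have hv : v ≫ pC = pullback.snd (u ≫ t) (C ↘ Spec (CommRingCat.of k)) :=
    (pullback.lift_snd _ _ _).trans (Category.comp_id _)
  let q := pullback.fst (u ≫ t) (C ↘ Spec (CommRingCat.of k))
  have hsq : IsPullback v q pT u :=
    IsPullback.of_right (hv.symm ▸ (IsPullback.of_hasPullback (u ≫ t) (C ↘ Spec (CommRingCat.of k))).flip)
      (pullback.lift_fst _ _ _) (IsPullback.of_hasPullback t (C ↘ Spec (CommRingCat.of k))).flip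
  obtain ⟨a⟩ := nonempty_arrow_res t v hv F D
  have key : Epi ((Scheme.Modules.pushforward q).map ((Scheme.Modules.pullback v).map (res t F D))) ↔
      Epi ((Coh.push q).map (res (u ≫ t) ((Scheme.Modules.pullback v).obj F) D)) :=
    (MorphismProperty.epimorphisms _).arrow_mk_iso_iff ((Scheme.Modules.pushforward q).mapArrow.mapIso a)
  have hN := isIso_bc_quo t hC hD hF hsq
  refine ⟨fun he => key.1 (BC.epi_of_epi hsq _ hN he), fun hfl hsu he => ?_⟩
  haveI := hfl
  haveI := hsu
  haveI := isQCoh_res_src (t := t) hF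
  haveI := hC.1
  exact BC.epi_of_epi_descend hsq _ (BC.isIso_bc_of_flat hsq _) hN (key.2 he)

end Groth.Agent.H10Coh.FreeSec
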