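import Groth.Agent.H10Coh.FreeSec.Sequence
import Groth.Agent.H17.KoszTwist.Terms

/-!
# Restriction to a smaller divisor
-/

set_option autoImplicit false
set_option linter.style.haveILetI false
set_option linter.unusedSectionVars false
set_option backward.isDefEq.respectTransparency.types false

noncomputable section

universe u

open CategoryTheory CategoryTheory.Limits AlgebraicGeometry TopologicalSpace Opposite

namespace Groth.Agent.H10Coh.FreeSec

attribute [local instance 10000] hasSheafifyAb hasWeakSheafifyAb hasExtAb enoughInjAb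
attribute [local instance] enoughInjMod

variable {X Y : Scheme.{u}} {f : X ⟶ Y}

theorem killed_of_mono {A B : Y.Modules} (m : A ⟶ B) [Mono m]
    (h : H16Derived.ProjFormula.Killed f B) : H16Derived.ProjFormula.Killed f A := by
  have hinj : ∀ y, Function.Injective ((DerSch.stalkFunctor Y y).map m).hom := fun y => by
    haveI : Mono ((DerSch.stalkFunctor Y y).map m) := inferInstance
    exact (ModuleCat.mono_iff_injective _).1 inferInstance
  refine ⟨fun x r hr a => hinj _ ?_, fun y hy => ?_⟩
  · exact (map_smul _ r a).trans ((h.smul_eq_zero x r hr _).trans (map_zero _).symm)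
  · haveI := h.subsingleton y hy
    exact ⟨fun a b => hinj y (@Subsingleton.elim _ (h.subsingleton y hy) _ _)⟩

variable {k : Type u} [Field k] {C : Scheme.{u}} [C.Over (Spec (CommRingCat.of k))]
variable {T : Scheme.{u}} (t : T ⟶ Spec (CommRingCat.of k))

local notation "P" => pullback t (C ↘ Spec (CommRingCat.of k))
local notation "pT" => pullback.fst t (C ↘ Spec (CommRingCat.of k))
local notation "pC" => pullback.snd t (C ↘ Spec (CommRingCat.of k))

theorem epi_res_of_le [HasInjectiveResolutions (P).Modules]
    (hC : Curve.IsSmoothProperCurve k C (C ↘ Spec (CommRingCat.of k))) {D D' : C.IdealSheafData}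
    (hD : BlowUp.IsEffCartierIdeal D) (hle : D ≤ D') {F : (P).Modules} (hF : FlatMod.IsFinLocFree F)
    (h : Epi ((Coh.push pT).map (res t F D))) : Epi ((Coh.push pT).map (res t F D')) := by
  obtain ⟨f, hf⟩ := H17.KoszTwist.exists_idealModMap hle
  haveI := H10Coh.epi_toSubscheme D
  haveI := H10Coh.epi_toSubscheme D'
  have hS : (ShortComplex.mk (ClSub.idealModι D) (ClSub.toSubscheme D) (kernel.condition _)).ShortExact :=
    { exact := ShortComplex.exact_kernel _, mono_f := inferInstanceAs (Mono (kernel.ι _)) }
  have h0 : ClSub.idealModι D ≫ ClSub.toSubscheme D' = 0 := by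
    rw [← hf, Category.assoc, show ClSub.idealModι D' ≫ ClSub.toSubscheme D' = 0 from kernel.condition _, comp_zero]
  obtain ⟨r, hr⟩ : ∃ r : ClSub.quotMod D ⟶ ClSub.quotMod D', ClSub.toSubscheme D ≫ r = ClSub.toSubscheme D' :=
    let ⟨r₀, hr₀⟩ := CokernelCofork.IsColimit.desc' hS.gIsCokernel (ClSub.toSubscheme D') h0
    ⟨r₀, hr₀⟩
  haveI : Epi r := epi_of_epi_fac hr
  haveI hk := H16Derived.ProjFormula.killed_push D.subschemeι (Coh.structureModule D.subscheme)
  have hK := killed_of_mono (f := D.subschemeι) (kernel.ι r) hk
  haveI := H16Derived.ProjFormula.isIso_unit_of_killed D.subschemeι hK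
  haveI hKq : (kernel r).IsQuasicoherent := by
    haveI : (Coh.structureModule D.subscheme).IsQuasicoherent := H10Coh.isQuasicoherent_unit
    haveI : (Coh.structureModule D'.subscheme).IsQuasicoherent := H10Coh.isQuasicoherent_unit
    haveI : ((Scheme.Modules.pushforward D.subschemeι).obj (Coh.structureModule D.subscheme)).IsQuasicoherent :=
      H10Coh.isQuasicoherent_pushforward _ _
    haveI : ((Scheme.Modules.pushforward D'.subschemeι).obj (Coh.structureModule D'.subscheme)).IsQuasicoherent :=
      H10Coh.isQuasicoherent_pushforward _ _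
    exact H10Coh.isQuasicoherent_kernel r
  haveI : ((Scheme.Modules.pullback D.subschemeι).obj (kernel r)).IsQuasicoherent :=
    H29Fitt.isQCoh_pullback _ _ hKq
  haveI : Flat t := H28Def.flat_of_field t
  haveI := H16Derived.KFlat.Stalk.preservesFiniteLimits_pullback_of_flat pC
  haveI : PreservesFiniteColimits (Scheme.Modules.pullback pC) :=
    @PreservesColimitsOfSize.preservesFiniteColimits.{0, 0} _ _ _ _ _
      (Scheme.Modules.pullbackPushforwardAdjunction pC).leftAdjoint_preservesColimits
  have hS' : (ShortComplex.mk (kernel.ι r) r (kernel.condition r)).ShortExact :=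
    { exact := ShortComplex.exact_kernel _ }
  have hS₁ := shortExact_tensorLeft hF (hS'.map_of_exact (Scheme.Modules.pullback pC))
  have hz : IsZero ((Coh.Rpush pT 1).obj (CohB1.tensorMod F ((Scheme.Modules.pullback pC).obj (kernel r)))) :=
    (isZero_rpush_push t hC hD hF ((Scheme.Modules.pullback D.subschemeι).obj (kernel r))).of_iso
      ((Coh.Rpush pT 1).mapIso (PicGrp.tensorModIso (Iso.refl F) ((Scheme.Modules.pullback pC).mapIso
        (@asIso _ _ _ _ ((H16Derived.ProjFormula.adj D.subschemeι).unit.app (kernel r)) inferInstance))))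
  haveI : (Scheme.Modules.pushforward pT).IsRightAdjoint :=
    (Scheme.Modules.pullbackPushforwardAdjunction pT).isRightAdjoint
  haveI : PreservesFiniteLimits (Coh.push pT) :=
    inferInstanceAs (PreservesFiniteLimits (Scheme.Modules.pushforward pT))
  have he : Epi ((Coh.push pT).map (((DCoh.tensorBi).obj F).map ((Scheme.Modules.pullback pC).map r))) :=
    H16Derived.AcyclicLES.epi_map_g (Coh.push pT) hS₁ hz
  have hfac : res t F D ≫ ((DCoh.tensorBi).obj F).map ((Scheme.Modules.pullback pC).map r) = res t F D' := by
    show ((DCoh.tensorBi).obj F).map ((Scheme.Modules.pullback pC).map (ClSub.toSubscheme D)) ≫ _ =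
      ((DCoh.tensorBi).obj F).map ((Scheme.Modules.pullback pC).map (ClSub.toSubscheme D'))
    rw [← Functor.map_comp, ← Functor.map_comp, hr]
  rw [← hfac]
  erw [Functor.map_comp]
  exact epi_comp' h he

end Groth.Agent.H10Coh.FreeSec
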