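import Groth.Agent.H27KZero.TensorRank
import Groth.Agent.H22Alg.KosTwist
import Groth.Agent.H17.DiagTensor.Geometry
import Groth.Agent.H10Coh.ProjFormulaFLF
import Groth.Agent.LeadProper.PushRpush
import Groth.Agent.H10Coh.PushEdge
import Groth.Agent.H10Coh.TensorTilde
import Groth.Agent.H25Par.FibKer
import Groth.Agent.H28Def.DefFunctor
import Groth.Agent.H16Derived.AcyclicLES
import Groth.Agent.H29RR.Degree
import Groth.Agent.H17.GabRos.Complement
import Groth.Prelude.Def_Curve
import Groth.Agent.H8Props.FinLocFree.Sheaf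

/-!
# The restriction sequence to a constant family of divisors on a curve
-/

set_option autoImplicit false
set_option linter.style.haveILetI false
set_option linter.unusedSectionVars false
set_option backward.isDefEq.respectTransparency.types false

noncomputable section

universe u

open CategoryTheory CategoryTheory.Limits AlgebraicGeometry TopologicalSpace Opposite

namespace Groth.Agent.H10Coh.FreeSec

attribute [local instance 10000] hasSheafifyAb hasWeakSheafifyAb hasExtAb enoughInjAb
attribute [local instance] enoughInjMod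

variable {X : Scheme.{u}}

theorem shortExact_tensorLeft {E : X.Modules} (hE : FlatMod.IsFinLocFree E) {S : ShortComplex X.Modules}
    (hS : S.ShortExact) : (S.map ((DCoh.tensorBi (X := X)).obj E)).ShortExact := by
  let T := (DCoh.tensorBi (X := X)).obj E
  let S' := S.map T
  haveI := hS.epi_g
  haveI : Epi S'.g := inferInstanceAs (Epi (T.map S.g))
  have hex : S'.Exact := hS.exact.map_of_epi_of_preservesCokernel T inferInstance inferInstance
  haveI : Mono S'.f := by
    refine H29Omega.mono_of_injective_stalkLin _ fun x => ?_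
    haveI : Module.Flat (X.presheaf.stalk x) ((DerSch.stalkFunctor X x).obj E) :=
      H16Derived.KFlat.Stalk.isFlat_of_isFinLocFree hE x
    haveI : Mono ((DerSch.stalkFunctor X x).map S'.f) :=
      (ShortComplex.shortExact_of_iso (S.mapNatIso (H16Derived.KFlat.Stalk.leftIso E x).symm)
        ((hS.map_of_exact (DerSch.stalkFunctor X x)).map_of_exact (MonoidalCategory.tensorLeft _))).mono_f
    exact (ModuleCat.mono_iff_injective ((DerSch.stalkFunctor X x).map S'.f)).1 inferInstance
  exact { exact := hex }

/-- The long exact sequence through the vanishing third term. -/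
theorem isZero_iff_of_isZero_X₃ {A B : Type*} [Category A] [Abelian A] [EnoughInjectives A] [Category B] [Abelian B]
    (G : A ⥤ B) [G.Additive] [PreservesFiniteLimits G] {S : ShortComplex A} (hS : S.ShortExact)
    (h₃ : IsZero ((G.rightDerived 1).obj S.X₃)) :
    IsZero ((G.rightDerived 1).obj S.X₁) ↔ (IsZero ((G.rightDerived 1).obj S.X₂) ∧ Epi (G.map S.g)) := by
  obtain ⟨T, hT, e₁, e₂, e₃, a₂, a₃, ha₂, ha₃, hc⟩ := H16Derived.AcyclicLES.exists_les G S hS
  refine ⟨fun h => ⟨?_, H16Derived.AcyclicLES.epi_map_g G hS h⟩, fun ⟨h₂, he⟩ => ?_⟩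
  · exact ((hT.homology_exact₂ ((1 : ℕ) : ℤ)).isZero_X₂ ((h.of_iso (e₁ 1).some.symm).eq_of_src _ _)
      ((h₃.of_iso (e₃ 1).some.symm).eq_of_tgt _ _)).of_iso (e₂ 1).some
  · haveI : Epi (HomologicalComplex.homologyMap T.g 0) := by
      haveI : Epi (G.map S.g) := he
      haveI : Epi (a₂ ≫ HomologicalComplex.homologyMap T.g 0) := by rw [hc]; infer_instance
      exact epi_of_epi a₂ _
    have hδ : hT.δ (0 : ℤ) ((1 : ℕ) : ℤ) (by simp) = 0 := by
      rw [← cancel_epi (HomologicalComplex.homologyMap T.g 0), hT.comp_δ, comp_zero]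
    exact ((hT.homology_exact₁ (0 : ℤ) ((1 : ℕ) : ℤ) (by simp)).isZero_X₂ hδ
      ((h₂.of_iso (e₂ 1).some.symm).eq_of_tgt _ _)).of_iso (e₁ 1).some

variable {k : Type u} [Field k] {C : Scheme.{u}} [C.Over (Spec (CommRingCat.of k))]

theorem isFinite_subscheme (hC : Curve.IsSmoothProperCurve k C (C ↘ Spec (CommRingCat.of k)))
    {D : C.IdealSheafData} (hD : BlowUp.IsEffCartierIdeal D) :
    IsFinite (D.subschemeι ≫ (C ↘ Spec (CommRingCat.of k))) := by
  obtain ⟨hp, -, hi, hdim⟩ := hC
  haveI := hp
  haveI := hi
  haveI := H29RR.isNoetherian_of_proper (k := k) (X := C)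
  obtain ⟨hfin, -⟩ := H25Par.finite_of_isClosed_of_notMem hdim.le D.support.isClosed
    (H25Par.genericPoint_notMem (I := D) hD)
  haveI : Finite D.subscheme := by
    rw [← Scheme.IdealSheafData.range_subschemeι] at hfin
    haveI := hfin.to_subtype
    exact Finite.of_injective _ (Set.rangeFactorization_injective.2 D.subschemeι.isClosedEmbedding.injective)
  haveI : IsProper (D.subschemeι ≫ (C ↘ Spec (CommRingCat.of k))) := inferInstance
  haveI := LocallyQuasiFinite.of_finite_preimage_singleton
    (f := D.subschemeι ≫ (C ↘ Spec (CommRingCat.of k))) fun _ => Set.toFinite _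
  exact IsFinite.of_isProper_of_locallyQuasiFinite _

variable {T : Scheme.{u}} (t : T ⟶ Spec (CommRingCat.of k))

local notation "P" => pullback t (C ↘ Spec (CommRingCat.of k))
local notation "pT" => pullback.fst t (C ↘ Spec (CommRingCat.of k))
local notation "pC" => pullback.snd t (C ↘ Spec (CommRingCat.of k))

/-- The ideal sheaf, pulled back and twisted. -/
abbrev idl (F : (P).Modules) (D : C.IdealSheafData) : (P).Modules :=
  CohB1.tensorMod F ((Scheme.Modules.pullback pC).obj (ClSub.idealMod D))

/-- The quotient, pulled back and twisted. -/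
abbrev quo (F : (P).Modules) (D : C.IdealSheafData) : (P).Modules :=
  CohB1.tensorMod F ((Scheme.Modules.pullback pC).obj (ClSub.quotMod D))

/-- The restriction map. -/
abbrev res (F : (P).Modules) (D : C.IdealSheafData) :
    CohB1.tensorMod F ((Scheme.Modules.pullback pC).obj (Coh.structureModule C)) ⟶ quo t F D :=
  H22Alg.KosTwist.tensorLeftMap F ((Scheme.Modules.pullback pC).map (ClSub.toSubscheme D))

theorem exists_seq {F : (P).Modules} (hF : FlatMod.IsFinLocFree F) (D : C.IdealSheafData) :
    ∃ w : H22Alg.KosTwist.tensorLeftMap F ((Scheme.Modules.pullback pC).map (ClSub.idealModι D)) ≫ res t F D = 0,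
      (ShortComplex.mk _ _ w).ShortExact := by
  haveI : Flat t := H28Def.flat_of_field t
  haveI := H16Derived.KFlat.Stalk.preservesFiniteLimits_pullback_of_flat pC
  haveI : PreservesFiniteColimits (Scheme.Modules.pullback pC) :=
    @PreservesColimitsOfSize.preservesFiniteColimits.{0, 0} _ _ _ _ _
      (Scheme.Modules.pullbackPushforwardAdjunction pC).leftAdjoint_preservesColimits
  haveI := H10Coh.epi_toSubscheme D
  have hS₀ : (ShortComplex.mk (ClSub.idealModι D) (ClSub.toSubscheme D) (kernel.condition _)).ShortExact :=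
    { exact := ShortComplex.exact_kernel _, mono_f := inferInstanceAs (Mono (kernel.ι _)) }
  have hS₁ := shortExact_tensorLeft hF (hS₀.map_of_exact (Scheme.Modules.pullback pC))
  exact ⟨_, hS₁⟩

variable (hC : Curve.IsSmoothProperCurve k C (C ↘ Spec (CommRingCat.of k)))
  {D : C.IdealSheafData} (hD : BlowUp.IsEffCartierIdeal D)

include hC hD in
/-- Modules living on the divisor have no first higher direct image. -/
theorem isZero_rpush_push [HasInjectiveResolutions (P).Modules] {F : (P).Modules} (hF : FlatMod.IsFinLocFree F)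
    (K : D.subscheme.Modules) [K.IsQuasicoherent] :
    IsZero ((Coh.Rpush pT 1).obj (CohB1.tensorMod F
      ((Scheme.Modules.pullback pC).obj ((Scheme.Modules.pushforward D.subschemeι).obj K)))) := by
  let g := pullback.fst D.subschemeι pC
  let i' := pullback.snd D.subschemeι pC
  have H : IsPullback g i' D.subschemeι pC := IsPullback.of_hasPullback _ _
  let e₁ := (H8Props.ClosedBC.baseChangeIso H).app K
  let O := (Scheme.Modules.pullback g).obj K
  haveI := PF.isIso_ψ_of_isFinLocFree i' hF O
  let G := ((DCoh.tensorBi).obj O).obj ((Scheme.Modules.pullback i').obj F)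
  have e : CohB1.tensorMod F
      ((Scheme.Modules.pullback pC).obj ((Scheme.Modules.pushforward D.subschemeι).obj K)) ≅ (Coh.push i').obj G :=
    PicGrp.tensorModIso (Iso.refl F) e₁ ≪≫ H10Coh.Tw.commIso _ _ ≪≫ eqToIso (H25Euler.tensorBi_obj_obj _ _).symm ≪≫
      asIso (H16Derived.ProjFormula.ψ i' O F)
  have hsq : IsPullback (i' ≫ pT) g t (D.subschemeι ≫ (C ↘ Spec (CommRingCat.of k))) :=
    H.flip.paste_horiz (IsPullback.of_hasPullback t (C ↘ Spec (CommRingCat.of k)))
  haveI := isFinite_subscheme hC hD
  haveI : IsAffineHom (i' ≫ pT) := MorphismProperty.of_isPullback hsq.flip inferInstance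
  haveI : G.IsQuasicoherent := by
    haveI hFi := H16Derived.KFlat.Stalk.isFinLocFree_pullback i' hF
    haveI : ((Scheme.Modules.pullback i').obj F).IsQuasicoherent :=
      H8Props.FinLocFree.isQCoh_of_isFinLocFree _ hFi
    haveI : O.IsQuasicoherent := H29Fitt.isQCoh_pullback g K inferInstance
    exact H10Coh.TT.isQCoh_tensorMod _ _
  obtain ⟨e₃⟩ := LeadProper.nonempty_rpush_push pT i' G 1
  exact (H10Coh.isAcyclic_push_of_isAffineHom (i' ≫ pT) G 1 one_pos).of_iso ((Coh.Rpush pT 1).mapIso e ≪≫ e₃)

include hC hD in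
theorem isZero_rpush_quo [HasInjectiveResolutions (P).Modules] {F : (P).Modules} (hF : FlatMod.IsFinLocFree F) :
    IsZero ((Coh.Rpush pT 1).obj (quo t F D)) := by
  haveI : (Coh.structureModule D.subscheme).IsQuasicoherent := H10Coh.isQuasicoherent_unit
  exact isZero_rpush_push t hC hD hF (Coh.structureModule D.subscheme)

include hC hD in
theorem isZero_iff [HasInjectiveResolutions (P).Modules] {F : (P).Modules} (hF : FlatMod.IsFinLocFree F) :
    IsZero ((Coh.Rpush pT 1).obj (idl t F D)) ↔
      (IsZero ((Coh.Rpush pT 1).obj F) ∧ Epi ((Coh.push pT).map (res t F D))) := by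
  obtain ⟨w, hS⟩ := exists_seq t hF D
  haveI : (Scheme.Modules.pushforward pT).IsRightAdjoint :=
    (Scheme.Modules.pullbackPushforwardAdjunction pT).isRightAdjoint
  haveI : PreservesFiniteLimits (Coh.push pT) :=
    inferInstanceAs (PreservesFiniteLimits (Scheme.Modules.pushforward pT))
  refine (isZero_iff_of_isZero_X₃ (Coh.push pT) hS (isZero_rpush_quo t hC hD hF)).trans
    (and_congr_left fun _ => ?_)
  have e : CohB1.tensorMod F ((Scheme.Modules.pullback pC).obj (Coh.structureModule C)) ≅ F :=
    PicGrp.tensorModIso (Iso.refl F) (H16Derived.KFlat.Stalk.structurePullbackIso pC) ≪≫ H10Coh.Tw.rightUnitIso F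
  exact ⟨fun h => h.of_iso ((Coh.Rpush pT 1).mapIso e).symm, fun h => h.of_iso ((Coh.Rpush pT 1).mapIso e)⟩

end Groth.Agent.H10Coh.FreeSec
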